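/-
Checks of the transposition class of Fi23.
-/
import Cfsg.Agent.Lib.CosetEnum.PointClass
import Cfsg.Agent.Lib.CosetEnum.Fi31671.Data
import Cfsg.Agent.Lib.CosetEnum.Fi23Class.Data

set_option autoImplicit false
set_option maxRecDepth 1000000

namespace CfsgLib.CosetEnum.Fi23Class

theorem z0_ok : okZ Fi31671.table 0 2000 = true := by decide +kernel

theorem class0_ok : okClass Fi31671.table 10 zf Fi31671.hwR pairs 0 2000 = true := by decide +kernel

end CfsgLib.CosetEnum.Fi23Class
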