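/-
The transposition class of the presented Fi23.
-/
import Cfsg.Agent.Lib.CosetEnum.Fi31671.Main
import Cfsg.Agent.Lib.CosetEnum.Fi23Class.Check0
import Cfsg.Agent.Lib.CosetEnum.Fi23Class.Check1
import Cfsg.Agent.Lib.CosetEnum.Fi23Class.Check2
import Cfsg.Agent.Lib.CosetEnum.Fi23Class.Check3
import Cfsg.Agent.Lib.CosetEnum.Fi23Class.Check4
import Cfsg.Agent.Lib.CosetEnum.Fi23Class.Check5
import Cfsg.Agent.Lib.CosetEnum.Fi23Class.Check6
import Cfsg.Agent.Lib.CosetEnum.Fi23Class.Check7
import Cfsg.Agent.Lib.CosetEnum.Fi23Class.Check8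
import Cfsg.Agent.Lib.CosetEnum.Fi23Class.Check9
import Cfsg.Agent.Lib.CosetEnum.Fi23Class.Check10
import Cfsg.Agent.Lib.CosetEnum.Fi23Class.Check11
import Cfsg.Agent.Lib.CosetEnum.Fi23Class.Check12
import Cfsg.Agent.Lib.CosetEnum.Fi23Class.Check13
import Cfsg.Agent.Lib.CosetEnum.Fi23Class.Check14
import Cfsg.Agent.Lib.CosetEnum.Fi23Class.Check15

set_option autoImplicit false
set_option maxRecDepth 1000000

namespace CfsgLib.CosetEnum.Fi23Class

theorem okZ_sound {T : Table} {lo m : ℕ} (h : okZ T lo m = true) :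
    (∀ d < lo, runT T 10 zw.reverse d = zf d) → ∀ d < lo + m, runT T 10 zw.reverse d = zf d := by
  intro hlo d hd
  by_cases hd' : d < lo
  · exact hlo d hd'
  · have := allN_spec (f := fun i => force (Nat.add lo i) fun d => Nat.beq (runT T 10 zw.reverse d) (zf d)) h (d - lo)
      (by omega)
    rw [force_eq, show Nat.add lo (d - lo) = d by show lo + (d - lo) = d; omega] at this
    exact Nat.eq_of_beq_eq_true this

theorem zf_spec : ∀ d < 31671, runT Fi31671.table 10 zw.reverse d = zf d := by
  have h0 : ∀ d < 0, runT Fi31671.table 10 zw.reverse d = zf d := fun d hd => absurd hd (Nat.not_lt_zero d)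
  have h1 : ∀ d < 2000, runT Fi31671.table 10 zw.reverse d = zf d := okZ_sound z0_ok h0
  have h2 : ∀ d < 4000, runT Fi31671.table 10 zw.reverse d = zf d := okZ_sound z1_ok h1
  have h3 : ∀ d < 6000, runT Fi31671.table 10 zw.reverse d = zf d := okZ_sound z2_ok h2
  have h4 : ∀ d < 8000, runT Fi31671.table 10 zw.reverse d = zf d := okZ_sound z3_ok h3
  have h5 : ∀ d < 10000, runT Fi31671.table 10 zw.reverse d = zf d := okZ_sound z4_ok h4
  have h6 : ∀ d < 12000, runT Fi31671.table 10 zw.reverse d = zf d := okZ_sound z5_ok h5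
  have h7 : ∀ d < 14000, runT Fi31671.table 10 zw.reverse d = zf d := okZ_sound z6_ok h6
  have h8 : ∀ d < 16000, runT Fi31671.table 10 zw.reverse d = zf d := okZ_sound z7_ok h7
  have h9 : ∀ d < 18000, runT Fi31671.table 10 zw.reverse d = zf d := okZ_sound z8_ok h8
  have h10 : ∀ d < 20000, runT Fi31671.table 10 zw.reverse d = zf d := okZ_sound z9_ok h9
  have h11 : ∀ d < 22000, runT Fi31671.table 10 zw.reverse d = zf d := okZ_sound z10_ok h10
  have h12 : ∀ d < 24000, runT Fi31671.table 10 zw.reverse d = zf d := okZ_sound z11_ok h11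
  have h13 : ∀ d < 26000, runT Fi31671.table 10 zw.reverse d = zf d := okZ_sound z12_ok h12
  have h14 : ∀ d < 28000, runT Fi31671.table 10 zw.reverse d = zf d := okZ_sound z13_ok h13
  have h15 : ∀ d < 30000, runT Fi31671.table 10 zw.reverse d = zf d := okZ_sound z14_ok h14
  have h16 : ∀ d < 31671, runT Fi31671.table 10 zw.reverse d = zf d := okZ_sound z15_ok h15
  exact h16

theorem class_ok : ∀ d < 31671, okClassPoint Fi31671.table 10 zf Fi31671.hwR pairs d = true := by
  have h0 : ∀ d < 0, okClassPoint Fi31671.table 10 zf Fi31671.hwR pairs d = true := fun d hd => absurd hd (Nat.not_lt_zero d)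
  have h1 : ∀ d < 2000, okClassPoint Fi31671.table 10 zf Fi31671.hwR pairs d = true := okClass_sound class0_ok h0
  have h2 : ∀ d < 4000, okClassPoint Fi31671.table 10 zf Fi31671.hwR pairs d = true := okClass_sound class1_ok h1
  have h3 : ∀ d < 6000, okClassPoint Fi31671.table 10 zf Fi31671.hwR pairs d = true := okClass_sound class2_ok h2
  have h4 : ∀ d < 8000, okClassPoint Fi31671.table 10 zf Fi31671.hwR pairs d = true := okClass_sound class3_ok h3
  have h5 : ∀ d < 10000, okClassPoint Fi31671.table 10 zf Fi31671.hwR pairs d = true := okClass_sound class4_ok h4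
  have h6 : ∀ d < 12000, okClassPoint Fi31671.table 10 zf Fi31671.hwR pairs d = true := okClass_sound class5_ok h5
  have h7 : ∀ d < 14000, okClassPoint Fi31671.table 10 zf Fi31671.hwR pairs d = true := okClass_sound class6_ok h6
  have h8 : ∀ d < 16000, okClassPoint Fi31671.table 10 zf Fi31671.hwR pairs d = true := okClass_sound class7_ok h7
  have h9 : ∀ d < 18000, okClassPoint Fi31671.table 10 zf Fi31671.hwR pairs d = true := okClass_sound class8_ok h8
  have h10 : ∀ d < 20000, okClassPoint Fi31671.table 10 zf Fi31671.hwR pairs d = true := okClass_sound class9_ok h9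
  have h11 : ∀ d < 22000, okClassPoint Fi31671.table 10 zf Fi31671.hwR pairs d = true := okClass_sound class10_ok h10
  have h12 : ∀ d < 24000, okClassPoint Fi31671.table 10 zf Fi31671.hwR pairs d = true := okClass_sound class11_ok h11
  have h13 : ∀ d < 26000, okClassPoint Fi31671.table 10 zf Fi31671.hwR pairs d = true := okClass_sound class12_ok h12
  have h14 : ∀ d < 28000, okClassPoint Fi31671.table 10 zf Fi31671.hwR pairs d = true := okClass_sound class13_ok h13
  have h15 : ∀ d < 30000, okClassPoint Fi31671.table 10 zf Fi31671.hwR pairs d = true := okClass_sound class14_ok h14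
  have h16 : ∀ d < 31671, okClassPoint Fi31671.table 10 zf Fi31671.hwR pairs d = true := okClass_sound class15_ok h15
  exact h16

theorem hid : ∀ i < presFi23.k, presFi23.idx (presFi23.gen i) = i := by decide

theorem moved : (∃ d < 31671, conjMap Fi31671.table 10 zf g d ≠ zf d) ∧
    (∃ d < 31671, conjMap Fi31671.table 10 zf g' d ≠ zf d) := by
  refine ⟨⟨0, by decide, ?_⟩, ⟨1, by decide, ?_⟩⟩
  · exact Nat.ne_of_beq_eq_false (by decide +kernel)
  · exact Nat.ne_of_beq_eq_false (by decide +kernel)

theorem point_class [Finite presFi23.Grp] [IsSimpleGroup presFi23.Grp]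
    (hinj : Function.Injective (Fi31671.cert.hom Fi31671.hlt)) :
    Subgroup.centralizer ({(zw.map presFi23.σ).prod} : Set presFi23.Grp) = Fi31671.cert.sub ∧
      Cfsg.IsThreeTranspositionClass (conjugatesOf (zw.map presFi23.σ).prod) ∧
      (conjugatesOf (zw.map presFi23.σ).prod).ncard = 31671 :=
  Fi31671.cert.point_class Fi31671.hlt hid hinj Fi31671.hhw Fi31671.orb Fi31671.roots Fi31671.hwR
    (by decide +kernel) Fi31671.orbs zw (by decide) zf zf_spec g g' 3 2 (Or.inr rfl) (Or.inl rfl) (by decide) (by decide)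
    rfl (by decide +kernel) (by decide +kernel) (by decide +kernel) class_ok moved.1 moved.2

end CfsgLib.CosetEnum.Fi23Class
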