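/-
The point stabiliser of the presented Fi23 is a non-split double cover of the presented Fi22.
-/
import Cfsg.Agent.Lib.CosetEnum.Fi23Class.Main
import Cfsg.Agent.Lib.CosetEnum.Fi22Class.Main
import Cfsg.Agent.S1696
import Cfsg.Agent.S1697

set_option autoImplicit false
set_option maxRecDepth 1000000

namespace CfsgLib.CosetEnum.Fi23Class

open Cfsg CfsgLib.CosetEnum

/-- The transposition centralising the point stabiliser. -/
noncomputable def tp : presFi23.Grp := (zw.map presFi23.σ).prod

/-- The renumbering of the generators of Fi22 inside Fi23. -/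
def emb (x : ℕ) : ℕ := ([0, 1, 2, 3, 4, 5, 6, 8, 9] : List ℕ).getD x 10

theorem hinj : Function.Injective (Fi31671.cert.hom Fi31671.hlt) := by
  haveI : Finite presFi23.Grp := Cfsg.Agent.S1697.upper.1
  exact Fi31671.cert.hom_injective Fi31671.hlt (Fi31671.cert.card_le_of_fixSub Fi31671.hlt
    (Cfsg.Agent.S1697.lower (Fi31671.cert.ker_le_fixSub Fi31671.hlt _))) Cfsg.Agent.S1697.upper.2

theorem facts : Subgroup.centralizer ({tp} : Set presFi23.Grp) = Fi31671.cert.sub ∧
    IsThreeTranspositionClass (conjugatesOf tp) ∧ (conjugatesOf tp).ncard = 31671 := by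
  haveI : Finite presFi23.Grp := Cfsg.Agent.S1697.upper.1
  haveI : IsSimpleGroup presFi23.Grp := Cfsg.Agent.S1697.result.1
  exact point_class hinj

theorem emb_rels : ∀ w ∈ presFi22.rels, w.map emb ∈ presFi23.rels ∨ w.map emb = zw := by
  rw [Fi3510.rels_eq, Fi31671.rels_eq]; decide +kernel

theorem emb_lt : ∀ x, x < 9 → [emb x] ∈ Fi31671.hw := by decide

theorem emb_surj : ∀ w ∈ Fi31671.hw, ∃ x < 9, w = [emb x] := by decide

theorem gen_mem {x : ℕ} (hx : x < 9) : presFi23.σ (emb x) ∈ Fi31671.cert.sub :=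
  Subgroup.subset_closure ⟨_, emb_lt x hx, by simp⟩

theorem σ_ten : presFi23.σ 10 = 1 := if_neg (lt_irrefl _)

theorem emb_ge {x : ℕ} (hx : ¬ x < 9) : presFi23.σ (emb x) = 1 := by
  rw [emb, List.getD_eq_default _ _ (not_lt.mp hx), σ_ten]

/-- The generators of Fi22 in the point stabiliser. -/
noncomputable def genH (x : ℕ) : ↥Fi31671.cert.sub :=
  ⟨presFi23.σ (emb x), by
    by_cases hx : x < 9
    · exact gen_mem hx
    · rw [emb_ge hx]; exact one_mem _⟩

theorem genH_sq (x : ℕ) : genH x * genH x = 1 := Subtype.ext (presFi23.σ_sq _)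

theorem genH_prod (w : List ℕ) : (((w.map genH).prod : ↥Fi31671.cert.sub) : presFi23.Grp) =
    ((w.map emb).map presFi23.σ).prod := by
  induction w with
  | nil => rfl
  | cons a w ih =>
    rw [List.map_cons, List.prod_cons, Subgroup.coe_mul, ih, List.map_cons, List.map_cons, List.prod_cons]
    rfl

theorem genH_top : Subgroup.closure (genH '' Set.Iio 9) = ⊤ := by
  refine Subgroup.map_injective (Subgroup.subtype_injective Fi31671.cert.sub) ?_
  rw [MonoidHom.map_closure, ← MonoidHom.range_eq_map, Subgroup.range_subtype, ← Set.image_comp]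
  show _ = Subgroup.closure {g | ∃ w ∈ Fi31671.hw, (w.map presFi23.σ).prod = g}
  congr 1
  ext g
  constructor
  · rintro ⟨x, hx, rfl⟩
    exact ⟨_, emb_lt x hx, by simp [genH]⟩
  · rintro ⟨w, hw, rfl⟩
    obtain ⟨x, hx, rfl⟩ := emb_surj w hw
    exact ⟨x, hx, by simp [genH]⟩

/-- The transposition inside the point stabiliser. -/
noncomputable def th : ↥Fi31671.cert.sub := (([1, 2, 3, 4, 5, 6, 7] : List ℕ) |>.map genH).prod ^ 9

theorem th_val : (th : presFi23.Grp) = tp := by
  rw [th, ← prod_flatten_replicate, genH_prod, tp]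
  rfl

theorem th_center : th ∈ Subgroup.center ↥Fi31671.cert.sub := by
  refine Subgroup.mem_center_iff.mpr fun g => Subtype.ext ?_
  have hg : (g : presFi23.Grp) ∈ Subgroup.centralizer ({tp} : Set presFi23.Grp) := by rw [facts.1]; exact g.2
  rw [Subgroup.coe_mul, Subgroup.coe_mul, th_val]
  exact Subgroup.mem_centralizer_singleton_iff.mp hg

theorem card_th : Nat.card ↥(Subgroup.zpowers th) = 2 := by
  rw [Nat.card_zpowers, ← Subgroup.orderOf_coe, th_val]
  exact facts.2.1.1.1 tp mem_conjugatesOf_self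

/-- The point stabiliser is a non-split double cover of Fi22. -/
theorem double_cover : IsNonsplitDoubleCover ↥Fi31671.cert.sub Cfsg.Spor.Fi22 := by
  classical
  haveI : Finite presFi23.Grp := Cfsg.Agent.S1697.upper.1
  haveI : Finite presFi22.Grp := Cfsg.Agent.S1696.upper.1
  haveI hS : IsSimpleGroup presFi22.Grp := Cfsg.Agent.S1696.result.1
  set H := Fi31671.cert.sub
  set Z := Subgroup.zpowers th
  haveI hZn : Z.Normal := ⟨fun a ha g => by
    have hc := Subgroup.mem_center_iff.mp (Subgroup.zpowers_le.mpr th_center ha) g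
    rwa [hc, mul_inv_cancel_right]⟩
  let τ : ℕ → ↥H ⧸ Z := fun x => QuotientGroup.mk' Z (genH x)
  have hτ : ∀ x, τ x * τ x = 1 := fun x => by
    show QuotientGroup.mk' Z _ * QuotientGroup.mk' Z _ = 1
    rw [← map_mul, genH_sq, map_one]
  have hrel : ∀ w ∈ presFi22.rels, (w.map τ).prod = 1 := by
    intro w hw
    have e : (w.map τ).prod = QuotientGroup.mk' Z (w.map genH).prod := by rw [map_list_prod, List.map_map]; rfl
    rw [e, QuotientGroup.mk'_apply, QuotientGroup.eq_one_iff]
    rcases emb_rels w hw with h | h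
    · rw [show (w.map genH).prod = 1 from Subtype.ext (by rw [genH_prod, presFi23.rels_one h]; rfl)]
      exact one_mem _
    · rw [show (w.map genH).prod = th from Subtype.ext (by rw [genH_prod, h, th_val]; rfl)]
      exact Subgroup.mem_zpowers _
  let φ : presFi22.Grp →* ↥H ⧸ Z := PresentedGroup.toGroup (f := τ ∘ presFi22.idx) (presFi22.lift_rel hτ hrel)
  have hφ : ∀ x, x < 9 → φ (presFi22.σ x) = τ x := fun x hx => by
    rw [Pres.σ, if_pos hx]
    refine (PresentedGroup.toGroup.of _).trans ?_
    show τ (presFi22.idx (presFi22.gen x)) = τ x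
    rw [Fi22Class.hid x hx]
  have hsurj : Function.Surjective φ := by
    rw [← MonoidHom.range_eq_top, eq_top_iff, ← Subgroup.map_top_of_surjective (QuotientGroup.mk' Z)
      (QuotientGroup.mk'_surjective Z), ← genH_top, MonoidHom.map_closure, Subgroup.closure_le]
    rintro _ ⟨_, ⟨x, hx, rfl⟩, rfl⟩
    exact ⟨presFi22.σ x, hφ x hx⟩
  have hHcard : 31671 * Nat.card ↥H = Nat.card presFi23.Grp := by
    obtain ⟨e, -⟩ := Fi31671.cert.exists_equiv Fi31671.hlt hid Fi31671.hhw
    rw [← H.card_mul_index, index_eq_of_equiv e, mul_comm]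
    rfl
  have hcq : Nat.card (↥H ⧸ Z) = Nat.card presFi22.Grp := by
    have e := Subgroup.card_eq_card_quotient_mul_card_subgroup Z
    rw [card_th] at e
    have h22 : Nat.card presFi22.Grp = 64561751654400 := Cfsg.Agent.S1696.result.2
    have h23 : Nat.card presFi23.Grp = 4089470473293004800 := Cfsg.Agent.S1697.result.2
    have e2 : 31671 * (Nat.card (↥H ⧸ Z) * 2) = 4089470473293004800 := by rw [← e, hHcard, h23]
    rw [h22]
    clear e hHcard h22 h23
    omega
  have hbij : Function.Bijective φ := (Nat.bijective_iff_surjective_and_card φ).mpr ⟨hsurj, hcq.symm⟩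
  let e22 : presFi22.Grp ≃* ↥H ⧸ Z := MulEquiv.ofBijective φ hbij
  haveI hsq : IsSimpleGroup (↥H ⧸ Z) := by
    haveI : Nontrivial (↥H ⧸ Z) := e22.symm.toEquiv.nontrivial
    exact IsSimpleGroup.isSimpleGroup_of_surjective (f := e22.toMonoidHom) e22.surjective
  have hcen : Subgroup.center ↥H = Z := by
    refine le_antisymm ?_ (Subgroup.zpowers_le.mpr th_center)
    rcases IsSimpleGroup.eq_bot_or_eq_top_of_normal ((Subgroup.center ↥H).map (QuotientGroup.mk' Z))
      (Subgroup.Normal.map inferInstance _ (QuotientGroup.mk'_surjective Z)) with h | h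
    · rwa [Subgroup.map_eq_bot_iff, QuotientGroup.ker_mk'] at h
    · exfalso
      letI : CommGroup (↥H ⧸ Z) := { (inferInstance : Group (↥H ⧸ Z)) with
        mul_comm := fun a b => by
          obtain ⟨a', ha', rfl⟩ : a ∈ (Subgroup.center ↥H).map (QuotientGroup.mk' Z) := h ▸ Subgroup.mem_top a
          obtain ⟨b', rfl⟩ := QuotientGroup.mk'_surjective Z b
          rw [← map_mul, ← map_mul, Subgroup.mem_center_iff.mp ha' b'] }
      have hp := IsSimpleGroup.prime_card (α := ↥H ⧸ Z)
      rw [hcq, show Nat.card presFi22.Grp = 64561751654400 from Cfsg.Agent.S1696.result.2] at hp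
      norm_num at hp
  refine ⟨by rw [hcen]; exact card_th, ⟨(QuotientGroup.quotientMulEquivOfEq hcen).trans e22.symm⟩, fun L hL => ?_⟩
  rw [hcen] at hL
  have hidx : L.index = 2 := by
    rw [← card_th]; exact hL.index_eq_card
  haveI := Subgroup.normal_of_index_eq_two hidx
  have same : ∀ x y : ↥H, x * x = 1 → y * y = 1 → (x * y) ^ 3 = 1 → (x ∈ L ↔ y ∈ L) := by
    intro x y hx hy hxy
    have hm : x * y ∈ L := by
      have h2 := L.sq_mem_of_index_two hidx (x * y)
      have e3 : (x * y) ^ 3 = (x * y) ^ 2 * (x * y) := pow_succ _ _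
      rw [hxy] at e3
      rw [show x * y = ((x * y) ^ 2)⁻¹ by rw [eq_inv_iff_mul_eq_one, ← pow_succ', hxy]]
      exact L.inv_mem h2
    exact (Subgroup.mul_mem_iff_of_index_two hidx).mp hm
  have hedge : ∀ i j, i < 9 → j < 9 → coxWord (emb i) (emb j) 3 ∈ presFi23.rels → (genH i ∈ L ↔ genH j ∈ L) := by
    intro i j hi hj hij
    refine same _ _ (genH_sq i) (genH_sq j) (Subtype.ext ?_)
    rw [SubmonoidClass.coe_pow, Subgroup.coe_mul]
    show (presFi23.σ (emb i) * presFi23.σ (emb j)) ^ 3 = 1
    rw [← prod_coxWord, presFi23.rels_one hij]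
  have hadj : ∀ e ∈ [(0, 1), (1, 2), (2, 3), (3, 4), (4, 5), (5, 6), (3, 7), (7, 8)],
      e.1 < 9 ∧ e.2 < 9 ∧ coxWord (emb e.1) (emb e.2) 3 ∈ presFi23.rels := by
    rw [Fi31671.rels_eq]; decide +kernel
  have he := fun e (h : e ∈ [(0, 1), (1, 2), (2, 3), (3, 4), (4, 5), (5, 6), (3, 7), (7, 8)]) =>
    hedge e.1 e.2 (hadj e h).1 (hadj e h).2.1 (hadj e h).2.2
  have e01 := he (0, 1) (by simp); have e12 := he (1, 2) (by simp); have e23 := he (2, 3) (by simp)
  have e34 := he (3, 4) (by simp); have e45 := he (4, 5) (by simp); have e56 := he (5, 6) (by simp)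
  have e37 := he (3, 7) (by simp); have e78 := he (7, 8) (by simp)
  have hall : ∀ x < 9, (genH x ∈ L ↔ genH 0 ∈ L) := by
    intro x hx
    have h1 := e01.symm
    have h2 := e12.symm.trans h1
    have h3 := e23.symm.trans h2
    have h4 := e34.symm.trans h3
    have h5 := e45.symm.trans h4
    have h6 := e56.symm.trans h5
    have h7 := e37.symm.trans h3
    have h8 := e78.symm.trans h7
    interval_cases x
    exacts [Iff.rfl, h1, h2, h3, h4, h5, h6, h7, h8]
  by_cases h0 : genH 0 ∈ L
  · have : L = ⊤ := by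
      rw [eq_top_iff, ← genH_top, Subgroup.closure_le]
      rintro _ ⟨x, hx, rfl⟩
      exact (hall x hx).mpr h0
    rw [this, Subgroup.index_top] at hidx
    omega
  -- an odd relator
  have hodd : ∀ w : List ℕ, (∀ x ∈ w, x < 9) → ((w.map genH).prod ∈ L ↔ Even w.length) := by
    intro w
    induction w with
    | nil => intro _; exact iff_of_true (one_mem L) (by simp)
    | cons x w ih =>
      intro hw
      rw [List.map_cons, List.prod_cons, Subgroup.mul_mem_iff_of_index_two hidx,
        ih fun y hy => hw y (List.mem_cons_of_mem _ hy), List.length_cons, Nat.even_add_one]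
      have := (hall x (hw x List.mem_cons_self)).not.mpr h0
      exact ⟨fun h he => this (h.mpr he), fun h => ⟨fun hx => absurd hx this, fun he => absurd he h⟩⟩
  set v : List ℕ := (List.replicate 9 [0, 1, 2, 3, 4, 5, 7]).flatten with hv
  have hv1 : (v.map genH).prod = 1 := Subtype.ext (by
    rw [genH_prod, presFi23.rels_one (by rw [hv, Fi31671.rels_eq]; decide +kernel)]; rfl)
  have := (hodd v (by rw [hv]; decide +kernel)).mp (hv1 ▸ one_mem L)
  rw [hv] at this
  exact absurd this (by decide +kernel)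

end CfsgLib.CosetEnum.Fi23Class
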